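import Groth.Agent.RRVanLib.Main

/-!
# Global generation and constants
-/

set_option autoImplicit false
universe u

open CategoryTheory CategoryTheory.Limits AlgebraicGeometry TopologicalSpace Opposite
open DevissLib QCohLib

noncomputable section

namespace RRVanLib

variable {k : Type u} [Field k] {X : Scheme.{u}} [X.Over (Spec (CommRingCat.of k))]

theorem e0_map {M N : X.Modules} (φ : M ⟶ N) (x : Coh.HH X M 0) :
    DegPullLib.e0 N (CurvLib.hMap (k := k) φ 0 x) = φ.app ⊤ (DegPullLib.e0 M x) := by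
  have h1 := QCohLib.hEquiv_map ((toAbF X).map φ) 0 x
  have h2 := QCohLib.h0_comp (QCohLib.hEquiv ((QCohLib.toAbF X).obj M) 0 x) ((toAbF X).map φ)
  exact (congrArg (QCohLib.h0 (U := (⊤ : Opens X.toTopCat))) h1).trans h2

variable [IsProper (X ↘ Spec (CommRingCat.of k))] [IsIntegral X] (hdim : topologicalKrullDim X = 1)

include hdim in
/-- `deg L ≥ 2g` forces global generation. -/
theorem isGloballyGenerated (h0 : Module.finrank k (Coh.HH X (Coh.structureModule X) 0) = 1) {L : X.Modules}
    (hL : PicF.IsInvertible L) (hdeg : 2 * (Curv2.genus k X : ℤ) ≤ Curv2.deg k X L 1) :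
    Curv2.IsGloballyGenerated L := by
  haveI := CurvLib.isNoetherian k (X := X)
  have hLc := CurvLib.isCoh_of_isInvertible hL
  let P : X.Modules := SheafOfModules.free (R := X.ringCatSheaf) Γ(L, ⊤)
  let p : P ⟶ L := L.freeHomEquiv.symm fun s => toSections L s
  refine ⟨Γ(L, ⊤), p, ?_⟩
  have hfree : Coh.IsQCoh (SheafOfModules.free (R := X.ringCatSheaf) Γ(L, ⊤)) :=
    isQCoh_sigma (fun _ : Γ(L, ⊤) => Coh.structureModule X) (fun _ => isQCoh_unit)
  have hC : Coh.IsCoh (cokernel p) := QCohLib.isCoh_cokernel p hfree hLc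
  have hp : ∀ σ : Γ(L, ⊤), unitHom L σ ≫ cokernel.π p = 0 := fun σ => by
    have hσ : (show Coh.structureModule X ⟶ P from SheafOfModules.ιFree (R := X.ringCatSheaf) σ) ≫ p = unitHom L σ :=
      QCohLib.ιFree_comp (fun s : Γ(L, ⊤) => s) σ
    rw [← hσ, Category.assoc, cokernel.condition, comp_zero]
  let F : X.Modules := kernel (cokernel.π p)
  have hF : Coh.IsCoh F := QCohLib.isCoh_kernel _ hLc hC.1
  let S : ShortComplex X.Modules := ShortComplex.mk (kernel.ι (cokernel.π p)) (cokernel.π p) (kernel.condition _)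
  have hS : S.ShortExact :=
    { exact := ShortComplex.exact_of_f_is_kernel _ (kernelIsKernel _)
      mono_f := inferInstanceAs (Mono (kernel.ι (cokernel.π p)))
      epi_g := inferInstanceAs (Epi (cokernel.π p)) }
  have hzero : ∀ x : Coh.HH X L 0, CurvLib.hMap (k := k) S.g 0 x = 0 := by
    intro x
    apply (DegPullLib.e0 (cokernel p)).injective
    rw [map_zero]
    refine (e0_map (k := k) (cokernel.π p) x).trans ?_
    have h1 := hp (DegPullLib.e0 L x)
    have h2 := congr_arg (fun φ : Coh.structureModule X ⟶ cokernel p => φ.app ⊤ (1 : Γ(X, ⊤))) h1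
    change (cokernel.π p).app ⊤ ((unitHom L (DegPullLib.e0 L x)).app ⊤ (1 : Γ(X, ⊤))) = 0 at h2
    rw [unitHom_app, one_smul] at h2
    exact (congrArg ((cokernel.π p).app ⊤) (AmpleLib.res_refl L _).symm).trans h2
  haveI := CurvLib.finite_HH (k := k) hF 0
  haveI := CurvLib.finite_HH (k := k) hLc 0
  have h00 : Module.finrank k (Coh.HH X F 0) = Module.finrank k (Coh.HH X L 0) :=
    (LinearEquiv.ofBijective (CurvLib.hMap (k := k) S.f 0) ⟨CurvLib.injective₀ hS, fun x =>
      LinearMap.mem_range.mp (by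
        rw [CurvLib.exact₂ hS 0, LinearMap.mem_ker]
        exact hzero x)⟩).finrank_eq
  haveI := subsingleton_h1 (k := k) hdim h0 hL (by omega)
  have hχL := CurvLib.euler_curve (k := k) hdim L
  rw [euler_eq_deg hdim h0, Module.finrank_zero_of_subsingleton (R := k) (M := Coh.HH X L 1)] at hχL
  have hF1 : Subsingleton (Coh.HH X F 1) := by
    rcases subsingleton_or_nontrivial (Coh.HH X F 1) with h | h
    · exact h
    have := h0_le_genus (k := k) hdim hF hL (kernel.ι (cokernel.π p)) h
    omega
  have hχF := CurvLib.euler_curve (k := k) hdim F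
  rw [h00, Module.finrank_zero_of_subsingleton (R := k) (M := Coh.HH X F 1)] at hχF
  have hadd := CurvLib.euler_add_of_isCoh (k := k) hS hF hLc hC
  change Curv2.euler k X L = Curv2.euler k X F + Curv2.euler k X (cokernel p) at hadd
  rw [euler_eq_deg hdim h0] at hadd
  -- the cokernel is supported in dimension zero
  have hne : ∃ x : Coh.HH X L 0, x ≠ 0 := by
    by_contra h
    push Not at h
    haveI : Subsingleton (Coh.HH X L 0) := ⟨fun a b => by rw [h a, h b]⟩
    rw [Module.finrank_zero_of_subsingleton (R := k) (M := Coh.HH X L 0)] at hχL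
    omega
  obtain ⟨x, hx⟩ := hne
  have hs : unitHom L (DegPullLib.e0 L x) ≠ 0 :=
    unitHom_ne_zero fun h => hx ((DegPullLib.e0 L).map_eq_zero_iff.mp h)
  obtain ⟨-, hdQ⟩ := CurvLib.cokernel_data (k := k) CurvLib.isInvertible_structureModule hL hdim hs
  let q : cokernel (unitHom L (DegPullLib.e0 L x)) ⟶ cokernel p := cokernel.desc _ (cokernel.π p) (hp _)
  haveI : Epi q := epi_of_epi_fac (cokernel.π_desc _ _ _)
  have hd : topologicalKrullDim (CohB1.support (cokernel p)) ≤ 0 :=
    (Topology.IsEmbedding.inclusion (DevissLib.support_epi q)).isInducing.topologicalKrullDim_le.trans hdQ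
  refine Abelian.epi_of_cokernel_π_eq_zero p ((CurvLib.isZero_of_h0 (k := k) hC hd ?_).eq_of_tgt _ _)
  rw [CurvLib.euler_eq_h0 (k := k) hC hd] at hadd
  omega

omit hdim in
/-- Over an algebraically closed field the only global functions are constants. -/
theorem finrank_h0_structure [IsAlgClosed k] : Module.finrank k (Coh.HH X (Coh.structureModule X) 0) = 1 := by
  haveI := CurvLib.finite_HH (k := k)
    (CurvLib.isCoh_of_isInvertible (CurvLib.isInvertible_structureModule (X := X))) 0
  letI : Algebra k Γ(X, ⊤) := RingHom.toAlgebra (Coh.toGlobal (X ↘ Spec (CommRingCat.of k)))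
  let e : Coh.HH X (Coh.structureModule X) 0 ≃ₗ[k] Γ(X, ⊤) :=
    { (DegPullLib.e0 (Coh.structureModule X)) with
      map_smul' := fun r x => (DegPullLib.e0_smul (Coh.structureModule X) _ x).trans rfl }
  haveI : Module.Finite k Γ(X, ⊤) := Module.Finite.equiv e
  haveI : Nonempty (⊤ : X.Opens) := ⟨⟨genericPoint X, trivial⟩⟩
  haveI : IsDomain Γ(X, ⊤) := IsIntegral.component_integral ⊤
  haveI : Algebra.IsIntegral k Γ(X, ⊤) := Algebra.IsIntegral.of_finite k _
  rw [e.finrank_eq, ← LinearEquiv.finrank_eq (LinearEquiv.ofBijective (Algebra.linearMap k Γ(X, ⊤))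
    IsAlgClosed.algebraMap_bijective_of_isIntegral), Module.finrank_self]

end RRVanLib
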