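import Groth.Agent.CurvLib.RRBasic
import Groth.Agent.CurvLib.Divisor
import Groth.Agent.DegPullLib.H0
import Groth.Agent.SerreVanLib.TwTensor

/-!
# Vanishing of `H¹` in large degree, without duality

If `F ⊆ L` with `H¹(F) ≠ 0`, composing a functional on `H¹(F)` with the maps `H¹(O) → H¹(F)` of the
sections of `F` embeds `H⁰(F)` into the dual of `H¹(O)`, so `h⁰(F) ≤ g`.
-/

set_option autoImplicit false
universe u

open CategoryTheory CategoryTheory.Limits AlgebraicGeometry TopologicalSpace Opposite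
open DevissLib QCohLib

noncomputable section

namespace RRVanLib

variable {k : Type u} [Field k] {X : Scheme.{u}} [X.Over (Spec (CommRingCat.of k))]

/-- Global sections as linear maps on cohomology. -/
theorem toAbF_unitHom_smul (M : X.Modules) (r : Γ(X, ⊤)) (σ : Γ(M, ⊤)) :
    (toAbF X).map (unitHom M (r • σ)) = (toAbF X).map (unitHom M σ) ≫ Coh.smulAb M r := by
  apply Sheaf.hom_ext
  ext V a
  have key : ∀ c : Γ(X, unop V), (unitHom M (r • σ)).app (unop V) c =
      (show Γ(X, unop V) from Coh.resTop X V r) • (unitHom M σ).app (unop V) c := fun c => by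
    rw [unitHom_app, unitHom_app]
    refine (congrArg (fun t : Γ(M, unop V) => c • t) (AmpleLib.res_smul M (le_top : unop V ≤ ⊤) r σ)).trans ?_
    rw [smul_smul, smul_smul, mul_comm]
    rfl
  exact key a

theorem toAbF_unitHom_add (M : X.Modules) (σ τ : Γ(M, ⊤)) :
    (toAbF X).map (unitHom M (σ + τ)) = (toAbF X).map (unitHom M σ) + (toAbF X).map (unitHom M τ) := by
  rw [← (toAbF X).map_add]
  congr 1
  apply Scheme.Modules.hom_ext
  intro V
  ext a
  change (unitHom M (σ + τ)).app V a = (unitHom M σ).app V a + (unitHom M τ).app V a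
  rw [unitHom_app, unitHom_app, unitHom_app, map_add, smul_add]

/-- The map `H⁰(M) → Hom(H¹(O), H¹(M))`. -/
def secMap (M : X.Modules) :
    Coh.HH X M 0 →ₗ[k] Coh.HH X (Coh.structureModule X) 1 →ₗ[k] Coh.HH X M 1 where
  toFun x := CurvLib.hMap (k := k) (unitHom M (DegPullLib.e0 M x)) 1
  map_add' x y := by
    refine LinearMap.ext fun z => ?_
    rw [LinearMap.add_apply, CurvLib.hMap_apply, CurvLib.hMap_apply, CurvLib.hMap_apply, map_add,
      toAbF_unitHom_add]
    exact Sheaf.H.map_add_apply _ _ _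
  map_smul' c x := by
    refine LinearMap.ext fun z => ?_
    rw [LinearMap.smul_apply, CurvLib.hMap_apply, CurvLib.hMap_apply]
    change Sheaf.H.map ((toAbF X).map (unitHom M
      (DegPullLib.e0 M (HSMul.hSMul (α := Coh.Γtop X) (Coh.toGlobal (X ↘ Spec (CommRingCat.of k)) c) x)))) 1 z = _
    rw [DegPullLib.e0_smul, toAbF_unitHom_smul, Sheaf.H.map_comp_apply]
    rfl

theorem secMap_apply (M : X.Modules) (x : Coh.HH X M 0) :
    secMap (k := k) M x = CurvLib.hMap (k := k) (unitHom M (DegPullLib.e0 M x)) 1 := rfl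

theorem unitHom_ne_zero {M : X.Modules} {σ : Γ(M, ⊤)} (h : σ ≠ 0) : unitHom M σ ≠ 0 := by
  intro h0
  apply h
  have h2 := congr_arg (fun φ : Coh.structureModule X ⟶ M => φ.app ⊤ (1 : Γ(X, ⊤))) h0
  change (unitHom M σ).app ⊤ (1 : Γ(X, ⊤)) = 0 at h2
  rw [unitHom_app, one_smul] at h2
  exact (AmpleLib.res_refl M σ).symm.trans h2

section Core

variable [IsProper (X ↘ Spec (CommRingCat.of k))] [IsIntegral X] (hdim : topologicalKrullDim X = 1)

include hdim in
/-- A nonzero section of a submodule of an invertible module is onto on `H¹`. -/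
theorem surjective_hMap_one {F L : X.Modules} (hF : Coh.IsCoh F) (hL : PicF.IsInvertible L) (j : F ⟶ L) [Mono j]
    (s : Coh.structureModule X ⟶ F) (hs : s ≠ 0) : Function.Surjective (CurvLib.hMap (k := k) s 1) := by
  haveI := CurvLib.isNoetherian k (X := X)
  have hO := CurvLib.isInvertible_structureModule (X := X)
  have hsj : s ≫ j ≠ 0 := fun h => hs (zero_of_comp_mono j h)
  haveI := CurvLib.mono_of_ne_zero hO hL hsj
  haveI : Mono s := mono_of_mono s j
  obtain ⟨hQ', hd⟩ := CurvLib.cokernel_data (k := k) hO hL hdim hsj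
  have hQ : Coh.IsCoh (cokernel s) :=
    QCohLib.isCoh_cokernel s (CurvLib.isCoh_of_isInvertible hO).1 hF
  let δ : cokernel s ⟶ cokernel (s ≫ j) := cokernel.desc s (j ≫ cokernel.π (s ≫ j)) (by
    rw [← Category.assoc, cokernel.condition])
  haveI : Mono δ := by
    refine Abelian.Pseudoelement.mono_of_zero_of_map_zero _ fun a ha => ?_
    obtain ⟨b, rfl⟩ := Abelian.Pseudoelement.pseudo_surjective_of_epi (cokernel.π s) a
    rw [← Abelian.Pseudoelement.comp_apply, cokernel.π_desc, Abelian.Pseudoelement.comp_apply] at ha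
    obtain ⟨c, hc⟩ := Abelian.Pseudoelement.pseudo_exact_of_exact
      (S := ShortComplex.mk (s ≫ j) (cokernel.π (s ≫ j)) (cokernel.condition _))
      (ShortComplex.exact_of_g_is_cokernel _ (cokernelIsCokernel _)) _ ha
    rw [Abelian.Pseudoelement.comp_apply] at hc
    rw [← Abelian.Pseudoelement.pseudo_injective_of_mono j hc, ← Abelian.Pseudoelement.comp_apply,
      cokernel.condition, Abelian.Pseudoelement.zero_apply]
  have hsupp : CohB1.support (cokernel s) ⊆ CohB1.support (cokernel (s ≫ j)) := DevissLib.support_mono δ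
  have hd0 : topologicalKrullDim (CohB1.support (cokernel s)) ≤ 0 :=
    (Topology.IsEmbedding.inclusion hsupp).isInducing.topologicalKrullDim_le.trans hd
  let S : ShortComplex X.Modules := ShortComplex.mk s (cokernel.π s) (cokernel.condition s)
  have hS : S.ShortExact :=
    { exact := ShortComplex.exact_of_g_is_cokernel _ (cokernelIsCokernel s)
      mono_f := inferInstanceAs (Mono s)
      epi_g := inferInstanceAs (Epi (cokernel.π s)) }
  haveI : Subsingleton (Coh.HH X S.X₃ 1) :=
    CurvLib.subsingleton_HH_of_support_dim (cokernel s) hQ.2 (d := 0) (by exact_mod_cast hd0) 1 Nat.one_pos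
  exact fun y => LinearMap.mem_range.mp (by
    rw [show LinearMap.range (CurvLib.hMap (k := k) s 1) = LinearMap.ker (CurvLib.hMap (k := k) S.g 1) from
      CurvLib.exact₂ hS 1, LinearMap.mem_ker]
    exact Subsingleton.elim _ _)

include hdim in
/-- The key bound. -/
theorem h0_le_genus {F L : X.Modules} (hF : Coh.IsCoh F) (hL : PicF.IsInvertible L) (j : F ⟶ L) [Mono j]
    (h1 : Nontrivial (Coh.HH X F 1)) :
    Module.finrank k (Coh.HH X F 0) ≤ Curv2.genus k X := by
  haveI : Module.Finite k (Coh.HH X (Coh.structureModule X) 1) :=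
    CurvLib.finite_HH (CurvLib.isCoh_of_isInvertible CurvLib.isInvertible_structureModule) 1
  obtain ⟨y, hy⟩ := exists_ne (0 : Coh.HH X F 1)
  haveI : Module.Free k (Coh.HH X F 1) := Module.Free.of_divisionRing k (Coh.HH X F 1)
  obtain ⟨φ, hφ⟩ : ∃ φ : Coh.HH X F 1 →ₗ[k] k, φ y ≠ 0 := by
    by_contra h
    push Not at h
    exact hy ((Module.forall_dual_apply_eq_zero_iff k y).mp h)
  let Θ : Coh.HH X F 0 →ₗ[k] (Coh.HH X (Coh.structureModule X) 1 →ₗ[k] k) :=
    (LinearMap.llcomp k _ _ _ φ).comp (secMap (k := k) F)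
  have hinj : Function.Injective Θ := by
    rw [injective_iff_map_eq_zero]
    intro x hx
    by_contra hne
    obtain ⟨z, hz⟩ := surjective_hMap_one (k := k) hdim hF hL j _
      (unitHom_ne_zero (M := F) (σ := DegPullLib.e0 F x) (fun h => hne ((DegPullLib.e0 F).map_eq_zero_iff.mp h))) y
    exact hφ (hz ▸ (LinearMap.congr_fun hx z : φ (secMap (k := k) F x z) = 0))
  refine (LinearMap.finrank_le_finrank_of_injective hinj).trans_eq ?_
  exact Subspace.dual_finrank_eq

include hdim in
/-- `H¹(F) ≠ 0` forces `χ(F) < g`. -/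
theorem euler_lt_genus {F L : X.Modules} (hF : Coh.IsCoh F) (hL : PicF.IsInvertible L) (j : F ⟶ L) [Mono j]
    (h1 : Nontrivial (Coh.HH X F 1)) : Curv2.euler k X F < Curv2.genus k X := by
  have h := h0_le_genus (k := k) hdim hF hL j h1
  have he := CurvLib.euler_curve (k := k) hdim F
  haveI := CurvLib.finite_HH (k := k) hF 1
  have : 0 < Module.finrank k (Coh.HH X F 1) := Module.finrank_pos
  omega

include hdim in
theorem euler_structure (h0 : Module.finrank k (Coh.HH X (Coh.structureModule X) 0) = 1) :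
    Curv2.euler k X (Coh.structureModule X) = 1 - Curv2.genus k X := by
  rw [CurvLib.euler_curve (k := k) hdim, h0, Curv2.genus]
  rfl

include hdim in
theorem euler_eq_deg (h0 : Module.finrank k (Coh.HH X (Coh.structureModule X) 0) = 1) (L : X.Modules) :
    Curv2.euler k X L = Curv2.deg k X L 1 + 1 - Curv2.genus k X := by
  rw [Curv2.deg, euler_structure hdim h0]
  push_cast
  ring

include hdim in
/-- `deg L ≥ 2g - 1` kills `H¹(L)`. -/
theorem subsingleton_h1 (h0 : Module.finrank k (Coh.HH X (Coh.structureModule X) 0) = 1) {L : X.Modules}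
    (hL : PicF.IsInvertible L) (hdeg : 2 * (Curv2.genus k X : ℤ) - 1 ≤ Curv2.deg k X L 1) :
    Subsingleton (Coh.HH X L 1) := by
  rcases subsingleton_or_nontrivial (Coh.HH X L 1) with h | h
  · exact h
  have h2 := euler_lt_genus (k := k) hdim (CurvLib.isCoh_of_isInvertible hL) hL (𝟙 L) h
  rw [euler_eq_deg hdim h0] at h2
  omega

omit [IsProper (X ↘ Spec (CommRingCat.of k))] [IsIntegral X] in
/-- The twisted ideal inside `L`. -/
theorem exists_mono (Z : X.IdealSheafData) {L : X.Modules} (hL : PicF.IsInvertible L) :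
    ∃ j : CohB1.tensorMod (ClSub.idealMod Z) L ⟶ L, Mono j := by
  have hT := CurvLib.shortExact_tensor_locFree (CurvLib.locFree_of_isInvertible hL) (CurvLib.idealSeq_shortExact Z)
  haveI := hT.mono_f
  let e : (CurvLib.tensorLeft' L).obj (Coh.structureModule X) ≅ L :=
    KFlatLib.tensSwap (Coh.structureModule X) L ≪≫ KFlatLib.tensUnitIso L
  have : Mono ((CurvLib.tensorLeft' L).map (ClSub.idealModι Z)) := hT.mono_f
  let sw : (CurvLib.tensorLeft' L).obj (ClSub.idealMod Z) ≅ CohB1.tensorMod (ClSub.idealMod Z) L :=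
    KFlatLib.tensSwap (ClSub.idealMod Z) L
  exact ⟨sw.inv ≫ (CurvLib.tensorLeft' L).map (ClSub.idealModι Z) ≫ e.hom, inferInstance⟩

include hdim in
theorem twist_data (Z : X.IdealSheafData) (hZ : topologicalKrullDim (Z.support : Set X) ≤ 0) {L : X.Modules}
    (hL : PicF.IsInvertible L) :
    Coh.IsCoh (CohB1.tensorMod (ClSub.idealMod Z) L) ∧
      Curv2.euler k X (CohB1.tensorMod (ClSub.idealMod Z) L) =
        Curv2.euler k X L - Module.finrank k (Coh.HH X (ClSub.quotMod Z) 0) := by
  haveI := CurvLib.isNoetherian k (X := X)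
  have hQ := CurvLib.isCoh_quotMod Z
  have hdQ : topologicalKrullDim (CohB1.support (ClSub.quotMod Z)) ≤ 0 :=
    (Topology.IsEmbedding.inclusion (CurvLib.support_quotMod_subset Z)).isInducing.topologicalKrullDim_le.trans hZ
  have hT := CurvLib.shortExact_tensor_locFree (CurvLib.locFree_of_isInvertible hL) (CurvLib.idealSeq_shortExact Z)
  have hQL := CurvLib.euler_tensor_locFree_of_dim_zero (k := k) hQ hdQ (CurvLib.locFree_of_isInvertible hL)
  have hI : Coh.IsCoh (CohB1.tensorMod (ClSub.idealMod Z) L) :=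
    SerreVanLib.isCoh_tensor (QCohLib.isCoh_kernel _ (CurvLib.isCoh_of_isInvertible CurvLib.isInvertible_structureModule) (show Coh.IsQCoh _ from hQ.1)) hL
  refine ⟨hI, ?_⟩
  let swI : (CurvLib.tensorLeft' L).obj (ClSub.idealMod Z) ≅ CohB1.tensorMod (ClSub.idealMod Z) L :=
    KFlatLib.tensSwap (ClSub.idealMod Z) L
  let swQ : (CurvLib.tensorLeft' L).obj (ClSub.quotMod Z) ≅ CohB1.tensorMod (ClSub.quotMod Z) L :=
    KFlatLib.tensSwap (ClSub.quotMod Z) L
  have hadd := CurvLib.euler_add_of_finiteCoh (k := k) hdim hT (AtlasCoh.FiniteCoh.of_iso swI.symm (fun q => CurvLib.finite_HH (k := k) hI q))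
    ((CurvLib.eulerTensorFormula_structure (k := k) (CurvLib.locFree_of_isInvertible hL)).1)
    (AtlasCoh.FiniteCoh.of_iso swQ.symm (CurvLib.finiteCoh_tensor_of_dim_zero (k := k) hQ hdQ (CurvLib.locFree_of_isInvertible hL)))
  have he := CurvLib.euler_congr (k := k)
    (KFlatLib.tensSwap (Coh.structureModule X) L ≪≫ KFlatLib.tensUnitIso L :
      (CurvLib.tensorLeft' L).obj (Coh.structureModule X) ≅ L)
  rw [CurvLib.euler_eq_h0 (k := k) hQ hdQ, Nat.cast_one, one_mul] at hQL
  change Curv2.euler k X ((CurvLib.tensorLeft' L).obj (Coh.structureModule X)) =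
    Curv2.euler k X ((CurvLib.tensorLeft' L).obj (ClSub.idealMod Z)) +
      Curv2.euler k X ((CurvLib.tensorLeft' L).obj (ClSub.quotMod Z)) at hadd
  rw [he, CurvLib.euler_congr (k := k) swI, CurvLib.euler_congr (k := k) swQ, hQL] at hadd
  linarith

include hdim in
theorem deg_le_of_nontrivial (h0 : Module.finrank k (Coh.HH X (Coh.structureModule X) 0) = 1) {L : X.Modules}
    (hL : PicF.IsInvertible L) (Z : X.IdealSheafData) (hZ : topologicalKrullDim (Z.support : Set X) ≤ 0)
    (h1 : Nontrivial (Coh.HH X (CohB1.tensorMod (ClSub.idealMod Z) L) 1)) :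
    Curv2.deg k X L 1 ≤ 2 * (Curv2.genus k X : ℤ) - 2 + Module.finrank k (Coh.HH X (ClSub.quotMod Z) 0) := by
  obtain ⟨hI, he⟩ := twist_data (k := k) hdim Z hZ hL
  obtain ⟨j, hj⟩ := exists_mono Z hL
  have h := euler_lt_genus (k := k) hdim hI hL j h1
  rw [he, euler_eq_deg hdim h0] at h
  omega

end Core

end RRVanLib
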